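import Mathlib

/-!
Intersection of a semilocal Prüfer domain with a subfield of its fraction field
(the `1 / (1 + x + ⋯ + x^(n-1))` trick), and a Krull dimension bound for it when the subfield is
finitely generated.
-/

set_option autoImplicit false
universe u

namespace Groth.Agent.PruferInter

open Finset

variable {R L : Type u} [CommRing R] [IsDomain R] [Field L] [Algebra R L] [IsFractionRing R L]

/-- `x` lies in the localisation of `R` at `m` inside `L`. -/
def InLoc (m : Ideal R) (x : L) : Prop :=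
  ∃ a b : R, b ∉ m ∧ x * algebraMap R L b = algebraMap R L a

theorem inLoc_or_inv (hR : ∀ (p : Ideal R) [p.IsPrime], ValuationRing (Localization.AtPrime p))
    (m : Ideal R) [m.IsPrime] (x : L) : InLoc m x ∨ InLoc m x⁻¹ := by
  obtain ⟨a, b, hb, rfl⟩ := IsFractionRing.div_surjective (A := R) x
  have hb0 : algebraMap R L b ≠ 0 := IsFractionRing.to_map_ne_zero_of_mem_nonZeroDivisors hb
  by_cases ha : a = 0
  · exact Or.inl ⟨0, 1, fun h => (inferInstance : m.IsPrime).ne_top ((Ideal.eq_top_iff_one m).2 h), by simp [ha]⟩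
  have ha0 : algebraMap R L a ≠ 0 := fun h => ha (IsFractionRing.injective R L (by rw [h, map_zero]))
  haveI := hR m
  have key : ∀ a b : R, algebraMap R (Localization.AtPrime m) a ∣ algebraMap R (Localization.AtPrime m) b →
      ∃ c s : R, s ∉ m ∧ a * c = b * s := by
    rintro a b ⟨c, hc⟩
    obtain ⟨⟨c, s⟩, hs⟩ := IsLocalization.surj m.primeCompl c
    refine ⟨c, s, s.2, IsLocalization.injective (Localization.AtPrime m) m.primeCompl_le_nonZeroDivisors ?_⟩
    rw [map_mul, map_mul, hc, mul_assoc, hs]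
  rcases (ValuationRing.iff_dvd_total.1 inferInstance).total (algebraMap R (Localization.AtPrime m) b)
    (algebraMap R (Localization.AtPrime m) a) with h | h
  · obtain ⟨c, s, hs, he⟩ := key _ _ h
    refine Or.inl ⟨c, s, hs, ?_⟩
    rw [div_mul_eq_mul_div, div_eq_iff hb0, ← map_mul, ← map_mul, ← he, mul_comm]
  · obtain ⟨c, s, hs, he⟩ := key _ _ h
    refine Or.inr ⟨c, s, hs, ?_⟩
    rw [inv_div, div_mul_eq_mul_div, div_eq_iff ha0, ← map_mul, ← map_mul, ← he, mul_comm]

theorem mem_range_of_forall_inLoc (x : L) (h : ∀ m : Ideal R, m.IsMaximal → InLoc m x) :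
    ∃ r : R, algebraMap R L r = x := by
  let D : Ideal R :=
    { carrier := {b | ∃ a, x * algebraMap R L b = algebraMap R L a}
      add_mem' := fun {p q} hp hq => by
        obtain ⟨a, ha⟩ := hp; obtain ⟨c, hc⟩ := hq
        exact ⟨a + c, by rw [map_add, map_add, mul_add, ha, hc]⟩
      zero_mem' := ⟨0, by simp⟩
      smul_mem' := fun r b hb => by
        obtain ⟨a, ha⟩ := hb
        exact ⟨r * a, by rw [smul_eq_mul, map_mul, map_mul, mul_left_comm, ha]⟩ }
  have : D = ⊤ := by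
    by_contra hD
    obtain ⟨m, hm, hle⟩ := Ideal.exists_le_maximal D hD
    obtain ⟨a, b, hb, he⟩ := h m hm
    exact hb (hle ⟨a, he⟩)
  obtain ⟨a, ha⟩ := (Ideal.eq_top_iff_one D).1 this
  exact ⟨a, by simpa using ha.symm⟩

theorem geom_sum_eq_zero_unique {F : Type*} [Field F] (z : F) {n n' : ℕ} (hn : n.Prime) (hn' : n'.Prime)
    (h : ∑ i ∈ range n, z ^ i = 0) (h' : ∑ i ∈ range n', z ^ i = 0) : n = n' := by
  by_contra hne
  have hco : n.Coprime n' := (Nat.coprime_primes hn hn').2 hne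
  have hp : ∀ k, ∑ i ∈ range k, z ^ i = 0 → z ^ k = 1 := fun k hk => by
    have := geom_sum_mul z k
    rw [hk, zero_mul] at this
    exact sub_eq_zero.1 this.symm
  have hz : z = 1 := by
    have := pow_gcd_eq_one.2 ⟨hp n h, hp n' h'⟩
    rwa [hco.gcd_eq_one, pow_one] at this
  subst hz
  simp only [one_pow, Finset.sum_const, Finset.card_range, nsmul_eq_mul, mul_one] at h h'
  haveI : CharP F (ringChar F) := inferInstance
  have h1 : ringChar F ∣ n.gcd n' := Nat.dvd_gcd ((ringChar.spec F n).1 h) ((ringChar.spec F n').1 h')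
  rw [hco.gcd_eq_one, Nat.dvd_one] at h1
  exact CharP.ringChar_ne_one h1

theorem pow_mul_geom {F : Type*} [Field F] (c d : F) (hd : d ≠ 0) (n : ℕ) :
    ∑ i ∈ range n, c ^ i * d ^ (n - 1 - i) = d ^ (n - 1) * ∑ i ∈ range n, (c / d) ^ i := by
  rw [Finset.mul_sum]
  refine Finset.sum_congr rfl fun i hi => ?_
  have hi : i ≤ n - 1 := by have := Finset.mem_range.1 hi; omega
  have : d ^ (n - 1) = d ^ i * d ^ (n - 1 - i) := by rw [← pow_add, Nat.add_sub_cancel' hi]
  rw [this, div_pow]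
  field_simp

theorem exists_decomp (hR : ∀ (p : Ideal R) [p.IsPrime], ValuationRing (Localization.AtPrime p))
    (hfin : Finite (MaximalSpectrum R)) (x : L) :
    ∃ n, 2 ≤ n ∧ ∑ k ∈ range n, x ^ k ≠ 0 ∧
      ∀ k < n, ∃ r : R, algebraMap R L r = (∑ i ∈ range n, x ^ i)⁻¹ * x ^ k := by
  classical
  have hpick : ∀ m : MaximalSpectrum R, ∃ (y : L) (a b : R), (y = x ∨ y = x⁻¹) ∧ b ∉ m.asIdeal ∧
      y * algebraMap R L b = algebraMap R L a := fun m => by
    haveI := m.isMaximal.isPrime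
    rcases inLoc_or_inv hR m.asIdeal x with ⟨a, b, hb, h⟩ | ⟨a, b, hb, h⟩
    · exact ⟨x, a, b, Or.inl rfl, hb, h⟩
    · exact ⟨x⁻¹, a, b, Or.inr rfl, hb, h⟩
  choose y a b hy hb hab using hpick
  let bad : Set ℕ := ⋃ m : MaximalSpectrum R, {n : ℕ | n.Prime ∧
    ∑ i ∈ range n, a m ^ i * b m ^ (n - 1 - i) ∈ m.asIdeal}
  have hbad : bad.Finite := Set.finite_iUnion fun m => Set.Subsingleton.finite <| by
    haveI := m.isMaximal
    letI := Ideal.Quotient.field m.asIdeal
    rintro n ⟨hn, h⟩ n' ⟨hn', h'⟩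
    have hd : Ideal.Quotient.mk m.asIdeal (b m) ≠ 0 := fun h0 => hb m (Ideal.Quotient.eq_zero_iff_mem.1 h0)
    rw [← Ideal.Quotient.eq_zero_iff_mem, map_sum] at h h'
    simp only [map_mul, map_pow, pow_mul_geom _ _ hd, mul_eq_zero, pow_eq_zero_iff', hd, false_and, false_or] at h h'
    exact geom_sum_eq_zero_unique _ hn hn' h h'
  obtain ⟨n, hn, hnbad⟩ := (Nat.infinite_setOf_prime.sdiff hbad).nonempty
  have hn2 : 2 ≤ n := Nat.Prime.two_le hn
  set σ : L := ∑ i ∈ range n, x ^ i with hσ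
  have key : ∀ m : MaximalSpectrum R, σ ≠ 0 ∧ ∀ k < n, InLoc m.asIdeal (σ⁻¹ * x ^ k) := by
    intro m
    haveI := m.isMaximal.isPrime
    set S : R := ∑ i ∈ range n, a m ^ i * b m ^ (n - 1 - i) with hS
    have hSm : S ∉ m.asIdeal := fun h => hnbad (Set.mem_iUnion.2 ⟨m, hn, h⟩)
    have hS0 : algebraMap R L S ≠ 0 := fun h => hSm (by
      rw [IsFractionRing.injective R L (h.trans (map_zero _).symm)]; exact zero_mem _)
    set B := algebraMap R L (b m) with hB
    set Y := ∑ i ∈ range n, y m ^ i with hY'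
    have hY : Y * B ^ (n - 1) = algebraMap R L S := by
      rw [hY', hS, map_sum, Finset.sum_mul]
      refine Finset.sum_congr rfl fun i hi => ?_
      have hi : i ≤ n - 1 := by have := Finset.mem_range.1 hi; omega
      have : B ^ (n - 1) = B ^ i * B ^ (n - 1 - i) := by rw [← pow_add, Nat.add_sub_cancel' hi]
      rw [this, ← mul_assoc, ← mul_pow, hab, map_mul, map_pow, map_pow]
    have hY0 : Y ≠ 0 := fun h => hS0 (by rw [← hY, h, zero_mul])
    have hj : ∀ j < n, InLoc m.asIdeal (Y⁻¹ * y m ^ j) := fun j hj => by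
      refine ⟨a m ^ j * b m ^ (n - 1 - j), S, hSm, ?_⟩
      have : B ^ (n - 1) = B ^ j * B ^ (n - 1 - j) := by rw [← pow_add, Nat.add_sub_cancel' (by omega)]
      rw [← hY, map_mul, map_pow, map_pow, ← hB, ← hab m, mul_pow, mul_assoc (y m ^ j) _ _, ← this]
      field_simp
    rcases hy m with hyx | hyx
    · rw [hyx] at hY' hj
      rw [show σ = Y by rw [hY']]
      exact ⟨hY0, hj⟩
    · by_cases hx0 : x = 0
      · have h1 : σ = 1 := by
          rw [hσ, hx0, ← Finset.sum_subset (Finset.singleton_subset_iff.2 (Finset.mem_range.2 (show 0 < n by omega)))]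
          · simp
          · intro i _ hi; rw [zero_pow (by simpa using hi)]
        refine ⟨by rw [h1]; exact one_ne_zero, fun k hk => ⟨(0 : R) ^ k, 1, fun h => m.isMaximal.ne_top ((Ideal.eq_top_iff_one _).2 h), ?_⟩⟩
        rw [h1, hx0]; simp
      · have hYσ : Y = x⁻¹ ^ (n - 1) * σ := by
          rw [hY', hσ, Finset.mul_sum, ← Finset.sum_range_reflect (fun i => y m ^ i)]
          refine Finset.sum_congr rfl fun i hi => ?_
          have hi : i ≤ n - 1 := by have := Finset.mem_range.1 hi; omega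
          have : x⁻¹ ^ (n - 1) = x⁻¹ ^ (n - 1 - i) * x⁻¹ ^ i := by rw [← pow_add, Nat.sub_add_cancel hi]
          rw [hyx, this, mul_assoc, ← mul_pow, inv_mul_cancel₀ hx0, one_pow, mul_one]
        have hσ0 : σ ≠ 0 := fun h => hY0 (by rw [hYσ, h, mul_zero])
        refine ⟨hσ0, fun k hk => ?_⟩
        have := hj (n - 1 - k) (by omega)
        convert this using 1
        rw [hYσ, hyx, mul_inv, inv_pow, inv_inv, inv_pow]
        have : x ^ (n - 1) = x ^ k * x ^ (n - 1 - k) := by rw [← pow_add, Nat.add_sub_cancel' (by omega)]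
        rw [this]
        field_simp
  obtain ⟨M, hM⟩ := Ideal.exists_maximal R
  exact ⟨n, hn2, (key ⟨M, hM⟩).1, fun k hk =>
    mem_range_of_forall_inLoc _ fun m hm => (key ⟨m, hm⟩).2 k hk⟩

section Inter

variable {A : Type u} [CommRing A] (ψ : A →+* R) (K : Subfield L)

theorem exists_decomp_inter (hR : ∀ (p : Ideal R) [p.IsPrime], ValuationRing (Localization.AtPrime p))
    (hfin : Finite (MaximalSpectrum R)) (hK : ∀ r : R, algebraMap R L r ∈ K ↔ ∃ a, ψ a = r)
    (x : L) (hx : x ∈ K) :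
    ∃ (n : ℕ) (c : ℕ → A), 2 ≤ n ∧ algebraMap R L (ψ (c 0)) ≠ 0 ∧
      (algebraMap R L (ψ (∑ k ∈ range n, c k)) = 1) ∧
      ∀ k, k + 1 < n → algebraMap R L (ψ (c k)) * x = algebraMap R L (ψ (c (k + 1))) := by
  obtain ⟨n, hn, hσ, h⟩ := exists_decomp hR hfin x
  have : ∀ k, ∃ a : A, k < n → algebraMap R L (ψ a) = (∑ i ∈ range n, x ^ i)⁻¹ * x ^ k := fun k => by
    by_cases hk : k < n
    · obtain ⟨r, hr⟩ := h k hk
      obtain ⟨a, ha⟩ := (hK r).1 (hr ▸ K.mul_mem (K.inv_mem (K.sum_mem fun i _ => pow_mem hx i)) (pow_mem hx k))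
      exact ⟨a, fun _ => by rw [ha, hr]⟩
    · exact ⟨0, fun hk' => absurd hk' hk⟩
  choose c hc using this
  refine ⟨n, c, hn, ?_, ?_, fun k hk => ?_⟩
  · rw [hc 0 (by omega), pow_zero, mul_one]; exact inv_ne_zero hσ
  · rw [map_sum, map_sum, Finset.sum_congr rfl (fun k hk => hc k (Finset.mem_range.1 hk)), ← Finset.mul_sum,
      inv_mul_cancel₀ hσ]
  · rw [hc k (by omega), hc (k + 1) hk, mul_assoc, ← pow_succ]

theorem exists_div (hR : ∀ (p : Ideal R) [p.IsPrime], ValuationRing (Localization.AtPrime p))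
    (hfin : Finite (MaximalSpectrum R)) (hK : ∀ r : R, algebraMap R L r ∈ K ↔ ∃ a, ψ a = r)
    (x : L) (hx : x ∈ K) :
    ∃ a b : A, algebraMap R L (ψ b) ≠ 0 ∧ x = algebraMap R L (ψ a) / algebraMap R L (ψ b) := by
  obtain ⟨n, c, hn, h0, -, hstep⟩ := exists_decomp_inter ψ K hR hfin hK x hx
  exact ⟨c 1, c 0, h0, by rw [eq_div_iff h0, mul_comm, hstep 0 (by omega)]⟩

theorem dvd_or_dvd (hR : ∀ (p : Ideal R) [p.IsPrime], ValuationRing (Localization.AtPrime p))
    (hfin : Finite (MaximalSpectrum R)) (hψ : Function.Injective ψ)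
    (hK : ∀ r : R, algebraMap R L r ∈ K ↔ ∃ a, ψ a = r) (p : Ideal A) [hp : p.IsPrime] (a b : A) :
    ∃ s ∉ p, ∃ c, a * s = b * c ∨ b * s = a * c := by
  have hφ : Function.Injective fun z => algebraMap R L (ψ z) := (IsFractionRing.injective R L).comp hψ
  by_cases hb : b = 0
  · exact ⟨1, fun h => hp.ne_top ((Ideal.eq_top_iff_one p).2 h), 0, Or.inr (by simp [hb])⟩
  have hb0 : algebraMap R L (ψ b) ≠ 0 := fun h => hb (hφ (by simp [h]))
  obtain ⟨n, c, hn, -, hsum, hstep⟩ := exists_decomp_inter ψ K hR hfin hK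
    (algebraMap R L (ψ a) / algebraMap R L (ψ b))
    (K.div_mem ((hK _).2 ⟨a, rfl⟩) ((hK _).2 ⟨b, rfl⟩))
  have hstep' : ∀ k, k + 1 < n → c k * a = c (k + 1) * b := fun k hk => hφ <| by
    simp only [map_mul]
    rw [← hstep k hk]
    field_simp
  obtain ⟨k, hk, hkp⟩ : ∃ k < n, c k ∉ p := by
    by_contra h
    push Not at h
    refine hp.ne_top ((Ideal.eq_top_iff_one p).2 ?_)
    have h1 : (∑ k ∈ range n, c k) = 1 := hφ (by simpa using hsum)
    rw [← h1]
    exact p.sum_mem fun k hk => h k (Finset.mem_range.1 hk)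
  rcases k with _ | k
  · exact ⟨c 0, hkp, c 1, Or.inl (by rw [mul_comm, hstep' 0 (by omega), mul_comm])⟩
  · exact ⟨c (k + 1), hkp, c k, Or.inr (by rw [mul_comm, ← hstep' k hk, mul_comm])⟩

theorem valuationRing [IsDomain A] (hR : ∀ (p : Ideal R) [p.IsPrime], ValuationRing (Localization.AtPrime p))
    (hfin : Finite (MaximalSpectrum R)) (hψ : Function.Injective ψ)
    (hK : ∀ r : R, algebraMap R L r ∈ K ↔ ∃ a, ψ a = r) (p : Ideal A) [p.IsPrime] :
    ValuationRing (Localization.AtPrime p) := by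
  refine ValuationRing.iff_dvd_total.2 ⟨fun z w => ?_⟩
  obtain ⟨⟨a, s⟩, rfl⟩ := IsLocalization.mk'_surjective p.primeCompl z
  obtain ⟨⟨b, t⟩, rfl⟩ := IsLocalization.mk'_surjective p.primeCompl w
  have key : ∀ (a b s c : A) (s' t : p.primeCompl), s ∉ p → b * s = a * c →
      IsLocalization.mk' (Localization.AtPrime p) a s' ∣ IsLocalization.mk' (Localization.AtPrime p) b t := by
    intro a b s c s' t hs h
    refine ⟨IsLocalization.mk' _ (c * s') (⟨s, hs⟩ * t), ?_⟩
    rw [← IsLocalization.mk'_mul, IsLocalization.mk'_eq_iff_eq]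
    congr 1
    simp only [Submonoid.coe_mul]
    linear_combination ((t : A) * s') * h
  obtain ⟨r, hr, c, h | h⟩ := dvd_or_dvd ψ K hR hfin hψ hK p a b
  · exact Or.inr (key b a r c t s hr h)
  · exact Or.inl (key a b r c s t hr h)

theorem finite_maximalSpectrum
    (hfin : Finite (MaximalSpectrum R)) (hψ : Function.Injective ψ)
    (hK : ∀ r : R, algebraMap R L r ∈ K ↔ ∃ a, ψ a = r) : Finite (MaximalSpectrum A) := by
  classical
  haveI := hfin
  haveI : Fintype (MaximalSpectrum R) := Fintype.ofFinite _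
  haveI hpr : ∀ m : MaximalSpectrum R, (m.asIdeal.comap ψ).IsPrime := fun m =>
    haveI := m.isMaximal.isPrime; Ideal.comap_isPrime ψ m.asIdeal
  have key : ∀ M : MaximalSpectrum A, ∃ m : MaximalSpectrum R, M.asIdeal = m.asIdeal.comap ψ := by
    intro M
    have hsub : (M.asIdeal : Set A) ⊆ ⋃ m ∈ ((Finset.univ : Finset (MaximalSpectrum R)) : Set (MaximalSpectrum R)),
        ((m.asIdeal.comap ψ : Ideal A) : Set A) := by
      intro a ha
      have hnu : ¬ IsUnit (ψ a) := by
        rintro ⟨v, hv⟩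
        have : algebraMap R L (↑v⁻¹ : R) ∈ K := by
          have h := K.inv_mem ((hK _).2 ⟨a, rfl⟩)
          rwa [← hv, ← map_units_inv] at h
        obtain ⟨a', ha'⟩ := (hK _).1 this
        have h1 : a * a' = 1 := hψ (by rw [map_mul, map_one, ha', ← hv, Units.mul_inv])
        exact M.isMaximal.ne_top (Ideal.eq_top_of_isUnit_mem _ ha (IsUnit.of_mul_eq_one _ h1))
      obtain ⟨m, hm, ham⟩ := exists_max_ideal_of_mem_nonunits hnu
      exact Set.mem_biUnion (x := (⟨m, hm⟩ : MaximalSpectrum R)) (by simp) ham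
    obtain ⟨M₀, hM₀⟩ := Ideal.exists_maximal R
    obtain ⟨m, -, hle⟩ := (Ideal.subset_union_prime (⟨M₀, hM₀⟩ : MaximalSpectrum R) ⟨M₀, hM₀⟩
      (fun m _ _ _ => hpr m)).1 hsub
    exact ⟨m, M.isMaximal.eq_of_le (hpr m).ne_top hle⟩
  choose g hg using key
  exact Finite.of_injective g fun M M' h => MaximalSpectrum.ext (by rw [hg, hg, h])

end Inter

section Dim

variable {A : Type u} [CommRing A] [IsDomain A]

/-- One sum, one dominating term. -/
theorem exists_lead {ι : Type*} [DecidableEq ι] (P : Ideal A) [hP : P.IsPrime]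
    (hdiv : ∀ a b : A, ∃ s ∉ P, ∃ c, a * s = b * c ∨ b * s = a * c)
    (f : ι → A) (T : Finset ι) (hT : T.Nonempty)
    (hsep : ∀ i ∈ T, ∀ j ∈ T, i ≠ j → ∀ s ∉ P, ∀ t ∉ P, f i * s ≠ f j * t) :
    ∃ i ∈ T, ∃ S ∉ P, ∃ c ∈ P, (∑ j ∈ T, f j) * S = f i * (S + c) := by
  induction hT using Finset.Nonempty.cons_induction with
  | singleton i =>
    exact ⟨i, Finset.mem_singleton_self i, 1, fun h => hP.ne_top ((Ideal.eq_top_iff_one P).2 h), 0, zero_mem _, by simp⟩
  | cons i T hi hT ih =>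
    obtain ⟨j, hj, S, hS, c, hc, he⟩ := ih fun k hk l hl => hsep k (Finset.mem_cons_of_mem hk) l (Finset.mem_cons_of_mem hl)
    have hij : i ≠ j := fun h => hi (h ▸ hj)
    obtain ⟨s, hs, d, h | h⟩ := hdiv (f i) (f j)
    · have hd : d ∈ P := by
        by_contra hd
        exact hsep i (Finset.mem_cons_self i T) j (Finset.mem_cons_of_mem hj) hij s hs d hd h
      refine ⟨j, Finset.mem_cons_of_mem hj, S * s, fun h' => (hP.mem_or_mem h').elim hS hs, c * s + d * S,
        add_mem (P.mul_mem_right _ hc) (P.mul_mem_right _ hd), ?_⟩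
      rw [Finset.sum_cons]
      linear_combination s * he + S * h
    · have hd : d ∈ P := by
        by_contra hd
        exact hsep i (Finset.mem_cons_self i T) j (Finset.mem_cons_of_mem hj) hij d hd s hs h.symm
      refine ⟨i, Finset.mem_cons_self i T, S * s, fun h' => (hP.mem_or_mem h').elim hS hs, d * (S + c),
        P.mul_mem_right _ hd, ?_⟩
      rw [Finset.sum_cons]
      linear_combination s * he + (S + c) * h

theorem prod_sep {M : ℕ} (P : ℕ → Ideal A) (hP : ∀ i, (P i).IsPrime) (hmono : ∀ i j, i ≤ j → j ≤ M → P i ≤ P j)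
    (x : Fin M → A) (hx : ∀ i : Fin M, x i ∈ P (i + 1)) (hx' : ∀ i : Fin M, x i ∉ P i)
    (α β : Fin M → ℕ) (s t : A) (hs : s ∉ P M) (ht : t ∉ P M)
    (h : (∏ i, x i ^ α i) * s = (∏ i, x i ^ β i) * t) : α = β := by
  classical
  by_contra hne
  have hne' : (Finset.univ.filter fun i => α i ≠ β i).Nonempty := by
    obtain ⟨i, hi⟩ := Function.ne_iff.1 hne
    exact ⟨i, by simp [hi]⟩
  set j := (Finset.univ.filter fun i => α i ≠ β i).min' hne'
  have hj : α j ≠ β j := (Finset.mem_filter.1 (Finset.min'_mem _ hne')).2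
  have hlow : ∀ i, i < j → α i = β i := fun i hi => by
    by_contra hi'
    exact (Finset.min'_le _ i (by simp [hi'])).not_gt hi
  have main : ∀ (α β : Fin M → ℕ) (s t : A), s ∉ P M → α j < β j → (∀ i, i < j → α i = β i) →
      (∏ i, x i ^ α i) * s = (∏ i, x i ^ β i) * t → False := by
    intro α β s t hs hlt hlow h
    have hx0 : ∀ i, x i ≠ 0 := fun i h0 => hx' i (h0 ▸ zero_mem _)
    let γ : Fin M → ℕ := fun i => if i ≤ j then α i else 0
    have hγ : ∀ i, γ i ≤ α i ∧ γ i ≤ β i := fun i => by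
      simp only [γ]
      split_ifs with hi
      · rcases hi.eq_or_lt with rfl | hi'
        · exact ⟨le_rfl, hlt.le⟩
        · exact ⟨le_rfl, (hlow i hi').le⟩
      · exact ⟨Nat.zero_le _, Nat.zero_le _⟩
    have hsplit : ∀ δ : Fin M → ℕ, (∀ i, γ i ≤ δ i) →
        ∏ i, x i ^ δ i = (∏ i, x i ^ γ i) * ∏ i, x i ^ (δ i - γ i) := fun δ hδ => by
      rw [← Finset.prod_mul_distrib]
      exact Finset.prod_congr rfl fun i _ => by rw [← pow_add, Nat.add_sub_cancel' (hδ i)]
    rw [hsplit α fun i => (hγ i).1, hsplit β fun i => (hγ i).2, mul_assoc, mul_assoc] at h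
    have h' := mul_left_cancel₀ (Finset.prod_ne_zero_iff.2 fun i _ => pow_ne_zero _ (hx0 i)) h
    haveI := hP (j + 1)
    have hR : (∏ i, x i ^ (β i - γ i)) * t ∈ P (j + 1) := by
      refine Ideal.mul_mem_right _ _ ?_
      rw [← Finset.prod_erase_mul _ _ (Finset.mem_univ j)]
      refine Ideal.mul_mem_left _ _ (Ideal.pow_mem_of_mem _ (hx j) _ ?_)
      simp only [γ, le_refl, if_true]; omega
    rw [← h'] at hR
    rcases (hP (j + 1)).mem_or_mem hR with h1 | h1
    · obtain ⟨i, -, hi⟩ := (Ideal.IsPrime.prod_mem_iff (hp := hP (j + 1))).1 h1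
      by_cases hij : i ≤ j
      · simp [γ, hij] at hi
        exact (hP (j + 1)).ne_top ((Ideal.eq_top_iff_one _).2 hi)
      · exact hx' i (hmono (j + 1) i (by simpa using Nat.lt_iff_add_one_le.1 (not_le.1 hij)) i.2.le
          ((hP (j + 1)).mem_of_pow_mem _ hi))
    · exact hs (hmono (j + 1) M j.2 le_rfl h1)
  rcases lt_or_gt_of_ne hj with hlt | hlt
  · exact main α β s t hs hlt hlow h
  · exact main β α t s ht hlt (fun i hi => (hlow i hi).symm) h.symm

/-- The integers inside `A`. -/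
theorem algebraicIndependent_chain {M : ℕ} (P : ℕ → Ideal A) (hP : ∀ i, (P i).IsPrime)
    (hmono : ∀ i j, i ≤ j → j ≤ M → P i ≤ P j)
    (hdiv : ∀ a b : A, ∃ s ∉ P M, ∃ c, a * s = b * c ∨ b * s = a * c)
    (q : A) (hq : q ≠ 0)
    (hint : ∀ m : ℤ, (m : A) ≠ 0 → ∃ (e : ℕ) (v : A), v ∉ P M ∧ (m : A) = q ^ e * v ∧ (e = 0 ∨ q ∈ P 0))
    (x : Fin M → A) (hx : ∀ i : Fin M, x i ∈ P (i + 1)) (hx' : ∀ i : Fin M, x i ∉ P i)
    (T : Finset (Fin M →₀ ℕ)) (hT : T.Nonempty) (m : (Fin M →₀ ℕ) → ℤ) (hm : ∀ α ∈ T, (m α : A) ≠ 0) :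
    ∑ α ∈ T, (m α : A) * ∏ i, x i ^ α i ≠ 0 := by
  classical
  haveI := hP M
  have hx0 : ∀ i, x i ≠ 0 := fun i h0 => hx' i (h0 ▸ zero_mem _)
  have hsep : ∀ α ∈ T, ∀ β ∈ T, α ≠ β → ∀ s ∉ P M, ∀ t ∉ P M,
      ((m α : A) * ∏ i, x i ^ α i) * s ≠ ((m β : A) * ∏ i, x i ^ β i) * t := by
    intro α hα β hβ hne s hs t ht h
    obtain ⟨e, v, hv, hve, he⟩ := hint _ (hm α hα)
    obtain ⟨e', v', hv', hve', he'⟩ := hint _ (hm β hβ)
    rw [hve, hve'] at h
    have main : ∀ (α β : Fin M →₀ ℕ) (e e' : ℕ) (v v' s t : A), v ∉ P M → s ∉ P M → e < e' → q ∈ P 0 →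
        q ^ e * v * (∏ i, x i ^ α i) * s = q ^ e' * v' * (∏ i, x i ^ β i) * t → False := by
      intro α β e e' v v' s t hv hs hlt hq0 h
      have hR : v * (∏ i, x i ^ α i) * s ∈ P 0 := by
        have h' : v * (∏ i, x i ^ α i) * s = q ^ (e' - e) * (v' * (∏ i, x i ^ β i) * t) := by
          refine mul_left_cancel₀ (pow_ne_zero e hq) ?_
          rw [← mul_assoc (q ^ e) (q ^ (e' - e)), ← pow_add, Nat.add_sub_cancel' hlt.le]
          linear_combination h
        rw [h']
        exact Ideal.mul_mem_right _ _ (Ideal.pow_mem_of_mem _ hq0 _ (by omega))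
      rcases (hP 0).mem_or_mem hR with h1 | h1
      · rcases (hP 0).mem_or_mem h1 with h2 | h2
        · exact hv (hmono 0 M (Nat.zero_le _) le_rfl h2)
        · obtain ⟨i, -, hi⟩ := (Ideal.IsPrime.prod_mem_iff (hp := hP 0)).1 h2
          exact hx' i (hmono 0 i (Nat.zero_le _) i.2.le ((hP 0).mem_of_pow_mem _ hi))
      · exact hs (hmono 0 M (Nat.zero_le _) le_rfl h1)
    rcases lt_trichotomy e e' with hlt | heq | hlt
    · exact main α β e e' v v' s t hv hs hlt (he'.resolve_left (by omega)) (by linear_combination h)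
    · subst heq
      have h' : (∏ i, x i ^ α i) * (v * s) = (∏ i, x i ^ β i) * (v' * t) := by
        refine mul_left_cancel₀ (pow_ne_zero e hq) ?_
        linear_combination h
      exact hne (DFunLike.coe_injective (prod_sep P hP hmono x hx hx' α β _ _
        (fun h1 => ((hP M).mem_or_mem h1).elim hv hs) (fun h1 => ((hP M).mem_or_mem h1).elim hv' ht) h'))
    · exact main β α e' e v' v t s hv' ht hlt (he.resolve_left (by omega)) (by linear_combination -h)
  intro h0
  obtain ⟨α, hα, S, hS, c, hc, he⟩ := exists_lead (P M) hdiv _ T hT hsep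
  rw [h0, zero_mul] at he
  have h1 : S + c = 0 := (mul_eq_zero.1 he.symm).resolve_left
    (mul_ne_zero (hm α hα) (Finset.prod_ne_zero_iff.2 fun i _ => pow_ne_zero _ (hx0 i)))
  exact hS ((Submodule.add_mem_iff_left _ hc).1 (h1 ▸ zero_mem _))

theorem chain_le_card {L : Type u} [Field L] (φ : A →+* L) (hφ : Function.Injective φ)
    (s : Finset L) (hA : ∀ a, φ a ∈ Subfield.closure (s : Set L))
    {M : ℕ} (P : ℕ → Ideal A) (hP : ∀ i, (P i).IsPrime) (hmono : ∀ i, i < M → P i < P (i + 1))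
    (hdiv : ∀ a b : A, ∃ s ∉ P M, ∃ c, a * s = b * c ∨ b * s = a * c)
    (q : A) (hq : q ≠ 0)
    (hint : ∀ m : ℤ, (m : A) ≠ 0 → ∃ (e : ℕ) (v : A), v ∉ P M ∧ (m : A) = q ^ e * v ∧ (e = 0 ∨ q ∈ P 0)) :
    M ≤ s.card := by
  classical
  choose x hx hx' using fun i : Fin M => SetLike.exists_of_lt (hmono i i.2)
  have hle : ∀ i j, i ≤ j → j ≤ M → P i ≤ P j := fun i j hij hj => by
    induction j, hij using Nat.le_induction with
    | base => exact le_rfl
    | succ k _ ih => exact (ih (by omega)).trans (hmono k (by omega)).le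
  let K : Subfield L := Subfield.closure (s : Set L)
  let D : Subring K := (Int.castRingHom K).range
  let s' : Set K := Subtype.val ⁻¹' (s : Set L)
  let y : Fin M → K := fun i => ⟨φ (x i), hA _⟩
  have hy : AlgebraicIndependent D y := by
    rw [algebraicIndependent_iff]
    intro Q hQ
    by_contra hQ0
    choose m hm using fun α => (Q.coeff α).2
    have hmA : ∀ α ∈ Q.support, (m α : A) ≠ 0 := fun α hα h => by
      refine MvPolynomial.mem_support_iff.1 hα (Subtype.ext ?_)
      rw [← hm α]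
      have h' : ((m α : ℤ) : L) = 0 := by simpa using congrArg φ h
      exact Subtype.ext (by simpa using h')
    refine algebraicIndependent_chain P hP hle hdiv q hq hint x hx hx' Q.support
      (MvPolynomial.support_nonempty.2 hQ0) m hmA (hφ ?_)
    rw [map_zero, map_sum]
    have h := congrArg (fun z : K => (z : L)) hQ
    simp only [MvPolynomial.aeval_def, MvPolynomial.eval₂_eq', ZeroMemClass.coe_zero] at h
    rw [← h]
    push_cast
    refine Finset.sum_congr rfl fun α _ => ?_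
    rw [map_mul, map_prod, map_intCast]
    simp only [map_pow]
    congr 1
    show ((m α : ℤ) : L) = (((Q.coeff α : D) : K) : L)
    rw [← hm α]
    simp
  haveI : Algebra.IsAlgebraic (Algebra.adjoin D s') K := ⟨fun z => by
    have hs' : Subring.closure (s : Set L) ≤ (Algebra.adjoin D s').toSubring.map K.subtype :=
      Subring.closure_le.2 fun w hw => ⟨⟨w, Subfield.subset_closure hw⟩, Algebra.subset_adjoin hw, rfl⟩
    obtain ⟨a, ha, b, hb, hab⟩ := Subfield.mem_closure_iff.1 z.2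
    obtain ⟨a, ha', rfl⟩ := hs' ha
    obtain ⟨b, hb', rfl⟩ := hs' hb
    by_cases hb0 : b = 0
    · subst hb0
      have : z = 0 := Subtype.ext (by rw [← hab]; simp)
      subst this
      exact isAlgebraic_zero
    refine ⟨Polynomial.C ⟨b, hb'⟩ * Polynomial.X - Polynomial.C ⟨a, ha'⟩, fun h => hb0 ?_, ?_⟩
    · have := congrArg (fun p : Polynomial (Algebra.adjoin D s') => p.coeff 1) h
      simp only [Polynomial.coeff_sub, Polynomial.coeff_C_mul, Polynomial.coeff_X_one, mul_one,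
        Polynomial.coeff_C_succ, sub_zero, Polynomial.coeff_zero] at this
      exact congrArg Subtype.val this
    · simp only [map_sub, map_mul, Polynomial.aeval_C, Polynomial.aeval_X, sub_eq_zero]
      refine Subtype.ext ?_
      show (b : L) * z = a
      rw [← hab]
      have : (b : L) ≠ 0 := fun h => hb0 (Subtype.ext h)
      simp only [Subfield.coe_subtype]
      field_simp⟩
  have h1 := hy.lift_cardinalMk_le_trdeg.trans (Cardinal.lift_le.2 (Algebra.IsAlgebraic.trdeg_le_cardinalMk D s'))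
  have hfin : s'.Finite := s.finite_toSet.preimage Subtype.val_injective.injOn
  haveI := hfin.fintype
  rw [Cardinal.mk_fintype, Cardinal.mk_fintype, Cardinal.lift_natCast, Cardinal.lift_natCast, Nat.cast_le, Fintype.card_fin] at h1
  refine h1.trans ?_
  rw [← Set.toFinset_card, ← Finset.card_image_of_injective _ Subtype.val_injective]
  exact Finset.card_le_card fun w hw => by
    obtain ⟨w, hw', rfl⟩ := Finset.mem_image.1 hw
    simpa [s'] using hw'

theorem dim_le {L : Type u} [Field L] (φ : A →+* L) (hφ : Function.Injective φ)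
    (s : Finset L) (hA : ∀ a, φ a ∈ Subfield.closure (s : Set L))
    (hdiv : ∀ (p : Ideal A) [p.IsPrime] (a b : A), ∃ t ∉ p, ∃ c, a * t = b * c ∨ b * t = a * c) :
    ringKrullDim A ≤ ((2 * s.card + 1 : ℕ) : WithBot ℕ∞) := by
  classical
  refine iSup_le fun l => ?_
  suffices l.length ≤ 2 * s.card + 1 by exact_mod_cast this
  let P : ℕ → Ideal A := fun i => (l ⟨min i l.length, by omega⟩).asIdeal
  have hP : ∀ i, (P i).IsPrime := fun i => (l _).isPrime
  have hmono : ∀ i, i < l.length → P i < P (i + 1) := fun i hi => by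
    show (l _).asIdeal < (l _).asIdeal
    exact l.strictMono (by simp [Fin.lt_def]; omega)
  set N := l.length
  haveI := hP N
  by_cases hcase : ∀ m : ℤ, (m : A) ≠ 0 → (m : A) ∉ P N
  · have := chain_le_card φ hφ s hA P hP hmono (fun a b => hdiv (P N) a b) 1 one_ne_zero
      (fun m hm => ⟨0, m, hcase m hm, by simp, Or.inl rfl⟩)
    omega
  push Not at hcase
  obtain ⟨m₀, hm₀, hm₀P⟩ := hcase
  have hnat : ∀ m : ℤ, ∀ I : Ideal A, ((m.natAbs : ℕ) : A) ∈ I ↔ (m : A) ∈ I := fun m I => by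
    rcases Int.natAbs_eq m with h | h
    · conv_rhs => rw [h, Int.cast_natCast]
    · conv_rhs => rw [h, Int.cast_neg, Int.cast_natCast, neg_mem_iff]
  have hex : ∃ n : ℕ, 0 < n ∧ ((n : ℕ) : A) ∈ P N :=
    ⟨m₀.natAbs, Int.natAbs_pos.2 (fun h => hm₀ (by simp [h])), (hnat _ _).2 hm₀P⟩
  set q := Nat.find hex
  obtain ⟨hq0, hqP⟩ := Nat.find_spec hex
  have hq1 : q ≠ 1 := fun h => (hP N).ne_top ((Ideal.eq_top_iff_one _).2 (by
    have := hqP; rwa [show Nat.find hex = 1 from h, Nat.cast_one] at this))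
  have hdec : ∀ m : ℤ, (m : A) ≠ 0 → ∃ (e : ℕ) (v : A), v ∉ P N ∧ (m : A) = (q : A) ^ e * v := by
    intro m hm
    have hm0 : m.natAbs ≠ 0 := fun h => hm (by rw [Int.natAbs_eq_zero.1 h, Int.cast_zero])
    obtain ⟨e, w, hw, hmw⟩ := Nat.exists_eq_pow_mul_and_not_dvd hm0 q hq1
    have hwP : (w : A) ∉ P N := fun h => by
      have h2 : ((w % q : ℕ) : A) ∈ P N := by
        have : (w : A) = ((w % q : ℕ) : A) + (q : A) * ((w / q : ℕ) : A) := by
          rw [← Nat.cast_mul, ← Nat.cast_add, Nat.mod_add_div]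
        rw [this] at h
        exact (Submodule.add_mem_iff_left _ (Ideal.mul_mem_right _ _ hqP)).1 h
      exact Nat.find_min hex (Nat.mod_lt _ hq0) ⟨Nat.pos_of_ne_zero fun h0 => hw (Nat.dvd_of_mod_eq_zero h0), h2⟩
    rcases Int.natAbs_eq m with h | h
    · exact ⟨e, w, hwP, by rw [h, hmw]; push_cast; ring⟩
    · exact ⟨e, -(w : A), fun h' => hwP (neg_mem_iff.1 h'), by rw [h, hmw]; push_cast; ring⟩
  have hqA : (q : A) ≠ 0 := by
    obtain ⟨e, v, hv, he⟩ := hdec m₀ hm₀
    rcases e with _ | e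
    · exact absurd (by rwa [pow_zero, one_mul] at he) fun he : (m₀ : A) = v => hv (he ▸ hm₀P)
    · intro h0
      exact hm₀ (by rw [he, h0, zero_pow (Nat.succ_ne_zero e), zero_mul])
  have hexk : ∃ k, (q : A) ∈ P k := ⟨N, hqP⟩
  set k := Nat.find hexk
  have hkN : k ≤ N := Nat.find_le hqP
  have hle : ∀ i j, i ≤ j → j ≤ N → P i ≤ P j := fun i j hij hj => by
    induction j, hij using Nat.le_induction with
    | base => exact le_rfl
    | succ k _ ih => exact (ih (by omega)).trans (hmono k (by omega)).le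
  have h1 : k - 1 ≤ s.card := by
    rcases Nat.eq_zero_or_pos k with hk | hk
    · omega
    refine chain_le_card φ hφ s hA P hP (fun i hi => hmono i (by omega))
      (fun a b => (haveI := hP (k - 1); hdiv (P (k - 1)) a b)) 1 one_ne_zero fun m hm => ⟨0, m, ?_, by simp, Or.inl rfl⟩
    obtain ⟨e, v, hv, he⟩ := hdec m hm
    intro hmem
    rw [he] at hmem
    rcases (hP (k - 1)).mem_or_mem hmem with h | h
    · exact Nat.find_min hexk (show k - 1 < k by omega) ((hP (k - 1)).mem_of_pow_mem _ h)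
    · exact hv (hle (k - 1) N (by omega) le_rfl h)
  have h2 : N - k ≤ s.card := by
    refine chain_le_card φ hφ s hA (fun i => P (k + i)) (fun i => hP _) (fun i hi => hmono (k + i) (by omega))
      (fun a b => (haveI := hP (k + (N - k)); hdiv (P (k + (N - k))) a b)) (q : A) hqA fun m hm => ?_
    obtain ⟨e, v, hv, he⟩ := hdec m hm
    exact ⟨e, v, by rw [Nat.add_sub_cancel' hkN]; exact hv, he, Or.inr (Nat.find_spec hexk)⟩
  omega

end Dim

end Groth.Agent.PruferInter
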