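import Mathlib

/-!
The spectrum of a semilocal Prüfer domain of finite Krull dimension is finite, and consequences.
-/

set_option autoImplicit false
universe u

namespace Groth.Agent.PruferInter

variable {R : Type u} [CommRing R] [IsDomain R]

theorem le_or_le_of_le (hR : ∀ (p : Ideal R) [p.IsPrime], ValuationRing (Localization.AtPrime p))
    (m : Ideal R) [m.IsPrime] (p q : Ideal R) [hp : p.IsPrime] [hq : q.IsPrime] (hpm : p ≤ m) (hqm : q ≤ m) :
    p ≤ q ∨ q ≤ p := by
  haveI := hR m
  have hcomap : ∀ (r : Ideal R), r.IsPrime → r ≤ m →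
      (r.map (algebraMap R (Localization.AtPrime m))).comap (algebraMap R (Localization.AtPrime m)) = r :=
    fun r hr hrm => IsLocalization.comap_map_of_isPrime_disjoint m.primeCompl (Localization.AtPrime m) hr
      (Set.disjoint_left.2 fun x hx hxr => hx (hrm hxr))
  rcases (ValuationRing.iff_ideal_total.1 inferInstance).total (p.map (algebraMap R (Localization.AtPrime m))) (q.map (algebraMap R (Localization.AtPrime m))) with h | h
  · exact Or.inl (by rw [← hcomap p hp hpm, ← hcomap q hq hqm]; exact Ideal.comap_mono h)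
  · exact Or.inr (by rw [← hcomap p hp hpm, ← hcomap q hq hqm]; exact Ideal.comap_mono h)

theorem finite_primeSpectrum (hR : ∀ (p : Ideal R) [p.IsPrime], ValuationRing (Localization.AtPrime p))
    (hfin : Finite (MaximalSpectrum R)) (hdim : ringKrullDim R < ⊤) : Finite (PrimeSpectrum R) := by
  classical
  haveI := hfin
  have hh : ∀ p : PrimeSpectrum R, Order.height p < ⊤ := fun p => by
    have := (Order.height_le_krullDim p).trans_lt hdim
    exact WithBot.coe_lt_coe.1 this
  choose g hg using fun p : PrimeSpectrum R => Ideal.exists_le_maximal p.asIdeal p.isPrime.ne_top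
  obtain ⟨D, hD⟩ : ∃ D : ℕ, ∀ p : PrimeSpectrum R, (Order.height p).toNat < D := by
    cases hd : ringKrullDim R with
    | bot =>
      exact absurd (hd ▸ ringKrullDim_nonneg_of_nontrivial (R := R)) (by simp)
    | coe d =>
      rw [hd] at hdim
      have hd' : d < ⊤ := WithBot.coe_lt_coe.1 hdim
      refine ⟨d.toNat + 1, fun p => Nat.lt_succ_of_le (ENat.toNat_le_toNat ?_ hd'.ne)⟩
      have := Order.height_le_krullDim p
      rw [show Order.krullDim (PrimeSpectrum R) = ringKrullDim R from rfl, hd] at this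
      exact WithBot.coe_le_coe.1 this
  refine Finite.of_injective
    (fun p => ((⟨g p, (hg p).1⟩ : MaximalSpectrum R), (⟨(Order.height p).toNat, hD p⟩ : Fin D))) fun p q h => ?_
  simp only [Prod.mk.injEq, MaximalSpectrum.mk.injEq, Fin.mk.injEq] at h
  haveI := (hg p).1.isPrime
  haveI := p.isPrime
  haveI := q.isPrime
  have heq : Order.height p = Order.height q := by
    rw [← ENat.coe_toNat (hh p).ne, ← ENat.coe_toNat (hh q).ne, h.2]
  rcases le_or_le_of_le hR (g p) p.asIdeal q.asIdeal (hg p).2 (h.1 ▸ (hg q).2) with h' | h'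
  · rcases eq_or_lt_of_le (show p ≤ q from h') with h'' | h''
    · exact h''
    · exact absurd heq (Order.height_strictMono h'' (hh p)).ne
  · rcases eq_or_lt_of_le (show q ≤ p from h') with h'' | h''
    · exact h''.symm
    · exact absurd heq.symm (Order.height_strictMono h'' (hh q)).ne

theorem exists_mem_iff (hR : ∀ (p : Ideal R) [p.IsPrime], ValuationRing (Localization.AtPrime p))
    (hfin : Finite (MaximalSpectrum R)) (hdim : ringKrullDim R < ⊤) (m : Ideal R) [hm : m.IsMaximal] :
    (∃ a : R, ∀ (p : Ideal R), p.IsPrime → (a ∈ p ↔ p = m)) ∧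
      ∃ b : R, b ∉ m ∧ IsLocalization.AtPrime (Localization.Away b) m := by
  classical
  haveI := finite_primeSpectrum hR hfin hdim
  haveI : Fintype (PrimeSpectrum R) := Fintype.ofFinite _
  constructor
  · by_contra h
    push Not at h
    have hsub : (m : Set R) ⊆ ⋃ p ∈ ((Finset.univ.filter fun p : PrimeSpectrum R => p.asIdeal ≠ m) :
        Set (PrimeSpectrum R)), (p.asIdeal : Set R) := by
      intro a ha
      obtain ⟨p, hp, hne⟩ := h a
      rcases hne with ⟨hap, hpm⟩ | ⟨hap, hpm⟩
      · exact Set.mem_biUnion (x := (⟨p, hp⟩ : PrimeSpectrum R)) (by simpa using hpm) hap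
      · exact absurd (hpm ▸ ha) hap
    obtain ⟨p, hp, hle⟩ := (Ideal.subset_union_prime (⟨m, hm.isPrime⟩ : PrimeSpectrum R) ⟨m, hm.isPrime⟩
      (fun p _ _ _ => p.isPrime)).1 hsub
    exact (Finset.mem_filter.1 hp).2 (hm.eq_of_le p.isPrime.ne_top hle).symm
  · have hc : ∀ p : PrimeSpectrum R, ∃ c, c ∉ m ∧ (¬ p.asIdeal ≤ m → c ∈ p.asIdeal) := fun p => by
      by_cases hp : p.asIdeal ≤ m
      · exact ⟨1, fun h => hm.ne_top ((Ideal.eq_top_iff_one m).2 h), fun h => absurd hp h⟩
      · obtain ⟨c, hc, hcm⟩ := SetLike.not_le_iff_exists.1 hp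
        exact ⟨c, hcm, fun _ => hc⟩
    choose c hc hc' using hc
    have hb : ∏ p, c p ∉ m := fun h => by
      obtain ⟨p, -, hp⟩ := (Ideal.IsPrime.prod_mem_iff (hp := hm.isPrime)).1 h
      exact hc p hp
    refine ⟨_, hb, IsLocalization.of_le (Submonoid.powers (∏ p, c p)) m.primeCompl
      (Submonoid.powers_le.2 hb) fun s hs => ?_⟩
    by_contra hu
    obtain ⟨Q, hQ, hsQ⟩ := exists_max_ideal_of_mem_nonunits hu
    haveI := hQ.isPrime
    let p : PrimeSpectrum R := ⟨Q.comap (algebraMap R _), Ideal.comap_isPrime _ Q⟩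
    by_cases hp : p.asIdeal ≤ m
    · exact hs (hp hsQ)
    · refine hQ.ne_top (Ideal.eq_top_of_isUnit_mem _ (?_ : algebraMap R _ (∏ p, c p) ∈ Q)
        (IsLocalization.Away.algebraMap_isUnit _))
      have := Q.mul_mem_left (algebraMap R _ ((Finset.univ.erase p).prod c)) (hc' p hp)
      rw [← map_mul, Finset.prod_erase_mul _ _ (Finset.mem_univ p)] at this
      exact this

theorem noetherianSpace (hR : ∀ (p : Ideal R) [p.IsPrime], ValuationRing (Localization.AtPrime p))
    (hfin : Finite (MaximalSpectrum R)) (hdim : ringKrullDim R < ⊤)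
    (S : Type u) [CommRing S] [Algebra R S] [Algebra.FiniteType R S] :
    TopologicalSpace.NoetherianSpace (PrimeSpectrum S) := by
  haveI := finite_primeSpectrum hR hfin hdim
  haveI : ∀ p : PrimeSpectrum R,
      TopologicalSpace.NoetherianSpace (PrimeSpectrum.comap (algebraMap R S) ⁻¹' {p} : Set (PrimeSpectrum S)) :=
    fun p => by
      haveI : IsNoetherianRing (p.asIdeal.Fiber S) :=
        Algebra.FiniteType.isNoetherianRing p.asIdeal.ResidueField _
      exact (PrimeSpectrum.preimageHomeomorphFiber R S p).isInducing.noetherianSpace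
  have h := TopologicalSpace.NoetherianSpace.iUnion
    (fun p : PrimeSpectrum R => (PrimeSpectrum.comap (algebraMap R S) ⁻¹' {p} : Set (PrimeSpectrum S)))
  have hu : (⋃ p : PrimeSpectrum R, PrimeSpectrum.comap (algebraMap R S) ⁻¹' {p}) = Set.univ :=
    Set.eq_univ_of_forall fun x => Set.mem_iUnion.2 ⟨_, rfl⟩
  rw [hu] at h
  exact TopologicalSpace.noetherian_univ_iff.1 h

end Groth.Agent.PruferInter
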